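import Groth.Agent.ParShLib.GP
import Groth.Agent.ParShLib.Degree
import Groth.Agent.Exact7.Scheme
import Groth.Agent.Lib.CurvePoint
import Groth.Agent.CycK.PtSub
import Groth.Agent.QCoh.DevissageIdeal

/-! `E / I·E = E ⊗ O_D`, and the pieces above `I·E` are coherent on a curve. -/

noncomputable section

set_option autoImplicit false
set_option linter.style.haveILetI false
set_option linter.unusedSectionVars false
set_option backward.isDefEq.respectTransparency false
set_option backward.isDefEq.respectTransparency.types false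
set_option maxHeartbeats 800000

universe u

open CategoryTheory CategoryTheory.Limits AlgebraicGeometry TopologicalSpace Opposite MonoidalCategory
open scoped TensorProduct

namespace Groth.Agent.ParShLib

open Groth.Agent

variable {X : Scheme.{u}}

/-- The unit isomorphism is natural. -/
theorem unitorR_natural {M N : X.Modules} (f : M ⟶ N) :
    KoszTw.tensorMap f (𝟙 (Coh.structureModule X)) ≫ (SecTwist.unitorR N).hom =
      (SecTwist.unitorR M).hom ≫ f := by
  let adj := PresheafOfModules.sheafificationAdjunction.{u, u, u, u}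
    (J := Opens.grothendieckTopology X) (𝟙 X.ringCatSheaf.obj)
  have h1 : (DCoh.toP.map f ⊗ₘ DCoh.toP.map (𝟙 (Coh.structureModule X)) :
      CohB1.tensorPre M (Coh.structureModule X) ⟶ CohB1.tensorPre N (Coh.structureModule X)) ≫
        ((SecTwist.unitorPre N).hom : CohB1.tensorPre N (Coh.structureModule X) ⟶ CohB1.toPMod N) =
      ((SecTwist.unitorPre M).hom : CohB1.tensorPre M (Coh.structureModule X) ⟶ CohB1.toPMod M) ≫
        (DCoh.toP.map f : CohB1.toPMod M ⟶ CohB1.toPMod N) := by
    rw [CategoryTheory.Functor.map_id]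
    erw [MonoidalCategory.tensorHom_id]
    exact MonoidalCategory.rightUnitor_naturality _
  rw [KoszTw.tensorMap_eq_sheafify]
  show (CohB1.sheafifyMod X).map _ ≫ ((CohB1.sheafifyMod X).map (SecTwist.unitorPre N).hom ≫ adj.counit.app N) =
    ((CohB1.sheafifyMod X).map (SecTwist.unitorPre M).hom ≫ adj.counit.app M) ≫ f
  rw [← Functor.map_comp_assoc]
  erw [h1]
  rw [Category.assoc]
  erw [Functor.map_comp, Category.assoc]
  congr 1
  exact adj.counit.naturality f

variable (I : X.IdealSheafData)

/-- `E ⟶ E ⊗ O_D`. -/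
def toRes (E : X.Modules) : E ⟶ ParSh.resD I E :=
  (SecTwist.unitorR E).inv ≫ KoszTw.tensorMap (𝟙 E) (ClSub.toSubscheme I)

instance epi_toRes (E : X.Modules) : Epi (toRes I E) := by
  haveI := CurvePoint.epi_toSubscheme I
  haveI : (DCoh.tensorBi.obj E).PreservesEpimorphisms := inferInstance
  haveI : Epi ((DCoh.tensorBi.obj E).map (ClSub.toSubscheme I)) := (DCoh.tensorBi.obj E).map_epi _
  rw [KoszTw.tensorBi_obj_map] at this
  exact epi_comp' inferInstance this

/-- Precomposing with an epimorphism does not change the image. -/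
theorem eq_of_epi_factorThru {A B C : X.Modules} (p : A ⟶ B) [Epi p] (g : B ⟶ C) :
    imageSubobject (p ≫ g) = imageSubobject g := by
  refine le_antisymm (imageSubobject_comp_le p g) ?_
  let o := Subobject.ofLE _ _ (imageSubobject_comp_le p g)
  have h : factorThruImageSubobject (p ≫ g) ≫ o = p ≫ factorThruImageSubobject g := by
    rw [← cancel_mono (imageSubobject g).arrow]
    simp [o]
  haveI : Epi (factorThruImageSubobject (p ≫ g) ≫ o) := by rw [h]; infer_instance
  haveI : Epi o := epi_of_epi (factorThruImageSubobject (p ≫ g)) o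
  haveI : IsIso o := isIso_of_mono_of_epi o
  exact Subobject.le_of_comm (inv o) (by simp [o])

theorem toRes_natural {E F : X.Modules} (φ : E ⟶ F) : φ ≫ toRes I F = toRes I E ≫ ParSh.resDMap I φ := by
  have h : φ ≫ (SecTwist.unitorR F).inv = (SecTwist.unitorR E).inv ≫ KoszTw.tensorMap φ (𝟙 _) := by
    rw [Iso.comp_inv_eq, Category.assoc, unitorR_natural, Iso.inv_hom_id_assoc]
  have h2 : KoszTw.tensorMap φ (𝟙 (Coh.structureModule X)) ≫ KoszTw.tensorMap (𝟙 F) (ClSub.toSubscheme I) =
      KoszTw.tensorMap (𝟙 E) (ClSub.toSubscheme I) ≫ ParSh.resDMap I φ := by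
    rw [← KoszTw.tensorMap_comp, ← KoszTw.tensorMap_comp]
    simp
  unfold toRes
  rw [← Category.assoc, h, Category.assoc, h2, Category.assoc]

theorem twistMap_toRes (E : X.Modules) : ParSh.twistMap I E ≫ toRes I E = 0 := by
  unfold ParSh.twistMap toRes
  rw [Category.assoc, Iso.hom_inv_id_assoc, ← KoszTw.tensorBi_obj_map,
    ← KoszTw.tensorBi_obj_map, ← Functor.map_comp,
    show ClSub.idealModι I ≫ ClSub.toSubscheme I = 0 from kernel.condition _]
  haveI : (DCoh.tensorBi.obj E).Additive := inferInstance
  exact (DCoh.tensorBi.obj E).map_zero _ _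

theorem exact_twistMap (E : X.Modules) : (ShortComplex.mk _ _ (twistMap_toRes I E)).Exact := by
  haveI := CurvePoint.epi_toSubscheme I
  haveI : (DCoh.tensorBi.obj E).Additive := inferInstance
  have hS : (ShortComplex.mk (ClSub.idealModι I) (ClSub.toSubscheme I) (kernel.condition _)).Exact :=
    ShortComplex.exact_of_f_is_kernel _ (kernelIsKernel _)
  have h := hS.map_of_epi_of_preservesCokernel (DCoh.tensorBi.obj E) inferInstance inferInstance
  refine (ShortComplex.exact_iff_of_iso (ShortComplex.isoMk (S₁ := (ShortComplex.mk (ClSub.idealModι I) (ClSub.toSubscheme I) (kernel.condition _)).map (DCoh.tensorBi.obj E))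
    (S₂ := ShortComplex.mk _ _ (twistMap_toRes I E)) (Iso.refl _) (SecTwist.unitorR E) (Iso.refl _) ?_ ?_)).1 h
  · simp [ParSh.twistMap, KoszTw.tensorBi_obj_map]
  · simp [toRes, KoszTw.tensorBi_obj_map]

theorem twistSub_toRes (E : X.Modules) : (ParSh.twistSub I E).arrow ≫ toRes I E = 0 := by
  rw [← cancel_epi (factorThruImageSubobject (ParSh.twistMap I E)), comp_zero, ← Category.assoc]
  exact (congrArg (· ≫ toRes I E) (imageSubobject_arrow_comp _)).trans (twistMap_toRes I E)

/-- `0 → I·E → E → E ⊗ O_D → 0`. -/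
theorem shortExact_twistSub (E : X.Modules) : (ShortComplex.mk _ _ (twistSub_toRes I E)).ShortExact := by
  refine { exact := ?_, mono_f := inferInstance, epi_g := inferInstance }
  haveI : Epi (factorThruImageSubobject (ParSh.twistMap I E)) := inferInstance
  let φ : ShortComplex.mk _ _ (twistMap_toRes I E) ⟶ ShortComplex.mk _ _ (twistSub_toRes I E) :=
    { τ₁ := factorThruImageSubobject (ParSh.twistMap I E)
      τ₂ := 𝟙 _
      τ₃ := 𝟙 _
      comm₁₂ := (imageSubobject_arrow_comp _).trans (Category.comp_id _).symm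
      comm₂₃ := by simp }
  haveI : Epi φ.τ₁ := inferInstanceAs (Epi (factorThruImageSubobject (ParSh.twistMap I E)))
  haveI : IsIso φ.τ₂ := inferInstanceAs (IsIso (𝟙 _))
  haveI : Mono φ.τ₃ := inferInstanceAs (Mono (𝟙 _))
  exact (ShortComplex.exact_iff_of_epi_of_isIso_of_mono φ).1 (exact_twistMap I E)

/-- The image of `I·E` in a quotient `V` is `I·V`. -/
theorem image_twistSub {E V : X.Modules} (q : E ⟶ V) [Epi q] :
    imageSubobject ((ParSh.twistSub I E).arrow ≫ q) = ParSh.twistSub I V := by
  have h : KoszTw.tensorMap q (𝟙 (ClSub.idealMod I)) ≫ ParSh.twistMap I V = ParSh.twistMap I E ≫ q := by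
    unfold ParSh.twistMap
    rw [← Category.assoc, ← KoszTw.tensorMap_comp, Category.assoc, ← unitorR_natural, ← Category.assoc,
      ← KoszTw.tensorMap_comp]
    simp
  haveI : Epi (KoszTw.tensorMap q (𝟙 (ClSub.idealMod I))) := by
    rw [← KoszTw.tensorBi_map_app]
    refine Preadditive.epi_of_isZero_cokernel _ (CurveCohLib.isZero_of_subsingleton_stalks fun x => ?_)
    haveI : Epi ((DerSch.stalkFunctor X x).map ((DCoh.tensorBi.map q).app (ClSub.idealMod I))) := by
      have h := (KFlatLib.stalkTensorRightIso (ClSub.idealMod I) x).hom.naturality q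
      haveI : Epi ((MonoidalCategory.tensorRight ((DerSch.stalkFunctor X x).obj (ClSub.idealMod I))).map
        ((DerSch.stalkFunctor X x).map q)) := by
        haveI : PreservesFiniteColimits (MonoidalCategory.tensorRight ((DerSch.stalkFunctor X x).obj (ClSub.idealMod I))) :=
          KFlatLib.preservesFiniteColimits_tensorRight _
        haveI : (MonoidalCategory.tensorRight ((DerSch.stalkFunctor X x).obj (ClSub.idealMod I))).PreservesEpimorphisms :=
          preservesEpimorphisms_of_preservesColimitsOfShape _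
        haveI : Epi ((DerSch.stalkFunctor X x).map q) := inferInstance
        exact Functor.map_epi _ _
      have h2 : Epi ((DCoh.tensorBi.flip.obj (ClSub.idealMod I) ⋙ DerSch.stalkFunctor X x).map q) := by
        rw [← NatIso.naturality_2 (KFlatLib.stalkTensorRightIso (ClSub.idealMod I) x) q]
        exact epi_comp' inferInstance (epi_comp' this inferInstance)
      exact h2
    exact ModuleCat.subsingleton_of_isZero ((isZero_cokernel_of_epi
      ((DerSch.stalkFunctor X x).map ((DCoh.tensorBi.map q).app (ClSub.idealMod I)))).of_iso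
        (PreservesCokernel.iso (DerSch.stalkFunctor X x) _))
  have e1 : imageSubobject ((ParSh.twistSub I E).arrow ≫ q) = imageSubobject (ParSh.twistMap I E ≫ q) := by
    conv_rhs => rw [← imageSubobject_arrow_comp (ParSh.twistMap I E), Category.assoc]
    exact (eq_of_epi_factorThru _ _).symm
  rw [e1, ← h]
  exact eq_of_epi_factorThru _ _

theorem isCoh_twistSub [IsLocallyNoetherian X] {E : X.Modules} (hE : Coh.IsCoh E) :
    Coh.IsCoh ((ParSh.twistSub I E : Subobject E) : X.Modules) :=
  ParShLib.isCoh_ofIso (IsLimit.conePointUniqueUpToIso (kernelIsKernel _) (shortExact_twistSub I E).fIsKernel)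
    (QCoh.isCoh_kernel hE (isCoh_resD I hE) _)

/-- For a map injective modulo `I`, the trace of `I·F` is `I·V`. -/
theorem pullback_twistSub {V F : X.Modules} (ι : V ⟶ F) [Mono (ParSh.resDMap I ι)] :
    (Subobject.pullback ι).obj (ParSh.twistSub I F) = ParSh.twistSub I V := by
  have hpb := Subobject.isPullback ι (ParSh.twistSub I F)
  refine le_antisymm ?_ ?_
  · have h : ((Subobject.pullback ι).obj (ParSh.twistSub I F)).arrow ≫ toRes I V = 0 := by
      rw [← cancel_mono (ParSh.resDMap I ι), zero_comp, Category.assoc, ← toRes_natural, ← Category.assoc,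
        ← hpb.w, Category.assoc, twistSub_toRes, comp_zero]
    exact Subobject.le_of_comm ((shortExact_twistSub I V).exact.lift _ h) ((shortExact_twistSub I V).exact.lift_f _ h)
  · have h : ((ParSh.twistSub I V).arrow ≫ ι) ≫ toRes I F = 0 := by
      rw [Category.assoc, toRes_natural, ← Category.assoc, twistSub_toRes, zero_comp]
    exact Subobject.le_of_comm (hpb.lift ((shortExact_twistSub I F).exact.lift _ h) (ParSh.twistSub I V).arrow
      ((shortExact_twistSub I F).exact.lift_f _ h)) (hpb.lift_snd _ _ _)

/-- A map with locally free cokernel stays injective modulo `I`. -/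
theorem mono_resDMap [IsLocallyNoetherian X] {V F : X.Modules} (ι : V ⟶ F) [Mono ι]
    (h : FlatMod.IsFinLocFree (cokernel ι)) : Mono (ParSh.resDMap I ι) := by
  haveI : ∀ x : X, Mono ((DerSch.stalkFunctor X x).map (ParSh.resDMap I ι)) := fun x => by
    refine (ModuleCat.mono_iff_injective _).2 ?_
    have hS : (ShortComplex.mk ι (cokernel.π ι) (cokernel.condition ι)).ShortExact :=
      { exact := ShortComplex.exact_of_g_is_cokernel _ (cokernelIsCokernel ι) }
    have hx := (KFlatLib.shortExact_iff_stalk _).1 hS x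
    haveI : Module.Free (X.presheaf.stalk x) (stk (cokernel ι) x) := QCoh.free_stalk_of_isFinLocFree h x
    obtain ⟨s, hs⟩ := Module.projective_lifting_property (stkMap (cokernel.π ι) x) LinearMap.id
      hx.moduleCat_surjective_g
    have hex : Function.Exact (stkMap ι x) (stkMap (cokernel.π ι) x) :=
      CycK.sl_exact hS.exact x
    let p : stk F x →ₗ[X.presheaf.stalk x] LinearMap.range (stkMap ι x) :=
      LinearMap.codRestrict _ (LinearMap.id - s.comp (stkMap (cokernel.π ι) x)) fun a => (hex _).1 (by
        have := LinearMap.congr_fun hs (stkMap (cokernel.π ι) x a)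
        simp only [LinearMap.comp_apply, LinearMap.id_apply] at this
        simp [this])
    let eι := LinearEquiv.ofInjective (stkMap ι x) hx.moduleCat_injective_f
    let l : stk F x →ₗ[X.presheaf.stalk x] stk V x := eι.symm.toLinearMap.comp p
    have hl : l.comp (stkMap ι x) = LinearMap.id := LinearMap.ext fun a => eι.injective (Subtype.ext (by
      have h0 : stkMap (cokernel.π ι) x (stkMap ι x a) = 0 := (hex _).2 ⟨a, rfl⟩
      simp [l, p, eι, h0]))
    have hinj : Function.Injective (LinearMap.rTensor (stk (ClSub.quotMod I) x) (stkMap ι x)) := fun a b hab => by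
      have := congrArg (LinearMap.rTensor (stk (ClSub.quotMod I) x) l) hab
      rwa [← LinearMap.rTensor_comp_apply, ← LinearMap.rTensor_comp_apply, hl, LinearMap.rTensor_id_apply,
        LinearMap.rTensor_id_apply] at this
    intro a b hab
    apply (resStalk I V x).injective
    apply hinj
    rw [← resStalk_naturality, ← resStalk_naturality]
    exact congrArg (resStalk I F x) hab
  exact Preadditive.mono_of_isZero_kernel _ (CurveCohLib.isZero_of_subsingleton_stalks fun x => ModuleCat.subsingleton_of_isZero ((isZero_kernel_of_mono ((DerSch.stalkFunctor X x).map (ParSh.resDMap I ι))).of_iso (PreservesKernel.iso (DerSch.stalkFunctor X x) _)))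

section Curve

variable (k : Type u) [Field k] [X.Over (Spec (CommRingCat.of k))]

attribute [local instance] CurveCohLib.stalkModuleK

variable [IsIntegral X] [IsProper (X ↘ Spec (CommRingCat.of k))] (hdim : topologicalKrullDim X = 1)
  (hD : FGA.IsEffCartier I)

include hdim hD in
theorem finite_stalk_resD {E : X.Modules} (hE : Coh.IsCoh E) {x : X} (hx : x ∈ I.support) :
    Module.Finite k (stk (ParSh.resD I E) x) :=
  haveI := CurveCohLib.isNoetherian' (k := k) (X := X)
  (CurveCohLib.euler_eq_sum_stalks (k := k) (isCoh_resD I hE)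
    (fun y hy => isClosed_singleton_of_mem_support k hdim I hD (support_resD_subset I E hy))
    (finite_support k hdim I hD).toFinset
    (fun y hy => Finset.mem_coe.2 ((Set.Finite.mem_toFinset _).2 (support_resD_subset I E hy)))).2 x
    ((Set.Finite.mem_toFinset _).2 hx)

include k hdim hD in
/-- The submodules containing `I·E` are coherent. -/
theorem isCoh_of_twistSub_le {E : X.Modules} (hE : Coh.IsCoh E) {P : Subobject E}
    (hP : ParSh.twistSub I E ≤ P) : Coh.IsCoh (P : X.Modules) := by
  classical
  haveI := CurveCohLib.isNoetherian' (k := k) (X := X)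
  let S := (finite_support k hdim I hD).toFinset
  have hST := shortExact_twistSub I E
  have hoff : ∀ y, y ∉ (I.support : Set X) → Function.Surjective (CycK.sl P.arrow y) := fun y hy => by
    haveI := isOn_twistSub I E hy
    intro m
    obtain ⟨a, ha⟩ := (ModuleCat.epi_iff_surjective _).1
      (isOn_twistSub I E hy) m
    refine ⟨CycK.sl (Subobject.ofLE _ _ hP) y a, ?_⟩
    rw [← CycK.sl_comp_apply, Subobject.ofLE_arrow]
    exact ha
  let N : ∀ x : S, Submodule (X.presheaf.stalk x.1) (E.presheaf.stalk x.1) := fun x =>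
    LinearMap.range (CycK.sl P.arrow x.1)
  have htors : ∀ x : S, CycK.Tors (R := X.presheaf.stalk x.1) (E.presheaf.stalk x.1 ⧸ N x) := fun x => by
    haveI := finite_stalk_resD I k hdim hD hE ((Set.Finite.mem_toFinset _).1 x.2)
    letI := stalkAlgK k x.1
    haveI := isScalarTower_stalkK k (ParSh.resD I E) x.1
    haveI : IsArtinian (X.presheaf.stalk x.1) (stk (ParSh.resD I E) x.1) := isArtinian_of_tower k inferInstance
    haveI : IsNoetherian (X.presheaf.stalk x.1) (stk (ParSh.resD I E) x.1) := isNoetherian_of_tower k inferInstance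
    have hx := (KFlatLib.shortExact_iff_stalk _).1 hST x.1
    have hex : Function.Exact (stkMap (ParSh.twistSub I E).arrow x.1) (stkMap (toRes I E) x.1) :=
      CycK.sl_exact hST.exact x.1
    have hsur : Function.Surjective (stkMap (toRes I E) x.1) := hx.moduleCat_surjective_g
    let e := LinearMap.quotKerEquivOfSurjective (stkMap (toRes I E) x.1) hsur
    let g : stk (ParSh.resD I E) x.1 →ₗ[X.presheaf.stalk x.1] (E.presheaf.stalk x.1 ⧸ N x) :=
      ((LinearMap.ker (stkMap (toRes I E) x.1)).liftQ (N x).mkQ (fun m hm => by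
        rw [Submodule.ker_mkQ]
        obtain ⟨a, rfl⟩ := (hex m).1 hm
        refine ⟨CycK.sl (Subobject.ofLE _ _ hP) x.1 a, ?_⟩
        rw [← CycK.sl_comp_apply, Subobject.ofLE_arrow]
        rfl)).comp e.symm.toLinearMap
    have hg : Function.Surjective g := fun y => by
      obtain ⟨m, rfl⟩ := (N x).mkQ_surjective y
      exact ⟨e (Submodule.Quotient.mk m), by simp [g]⟩
    haveI := isArtinian_of_surjective _ g hg
    haveI := isNoetherian_of_surjective g (LinearMap.range_eq_top.2 hg)
    exact CycK.tors_of_finiteLength (Module.length_ne_top_iff.2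
      (isFiniteLength_iff_isNoetherian_isArtinian.2 ⟨inferInstance, inferInstance⟩))
  let T : ∀ x : S, ModuleCat.{u} (X.presheaf.stalk x.1) := fun x => ModuleCat.of _ (E.presheaf.stalk x.1 ⧸ N x)
  choose ψ e he using fun x : S => CycK.exists_toSky E x.1 (T := T x) (ModuleCat.ofHom (N x).mkQ)
  let Φ : E ⟶ ⨁ fun x : S => (KFlatLib.sky x.1).obj (T x) := biproduct.lift ψ
  have hq : Coh.IsQCoh (⨁ fun x : S => (KFlatLib.sky x.1).obj (T x)) :=
    QCoh.isQCoh_biproduct _ fun x => CycK.isQCoh_sky x.1 _ (htors x)
  have hK : Coh.IsCoh (kernel Φ) := QCoh.isCoh_of_mono (kernel.ι Φ) hE (QCoh.isQCoh_kernel hE.1 hq Φ)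
  have hw : P.arrow ≫ Φ = 0 := by
    refine biproduct.hom_ext _ _ fun x => ((KFlatLib.skyAdj x.1).homEquiv _ _).symm.injective ?_
    refine ModuleCat.hom_ext (LinearMap.ext fun m => ?_)
    rw [Adjunction.homEquiv_counit, Adjunction.homEquiv_counit]
    show (KFlatLib.skyAdj x.1).counit.app (T x) (CycK.sl ((P.arrow ≫ Φ) ≫ biproduct.π (fun x : S => (KFlatLib.sky x.1).obj (T x)) x) x.1 m) =
      (KFlatLib.skyAdj x.1).counit.app (T x) (CycK.sl ((0 : (P : X.Modules) ⟶ ⨁ fun x : S => (KFlatLib.sky x.1).obj (T x)) ≫ biproduct.π (fun x : S => (KFlatLib.sky x.1).obj (T x)) x) x.1 m)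
    refine congrArg _ ?_
    rw [Category.assoc, biproduct.lift_π, zero_comp, CycK.sl_zero, CycK.sl_comp_apply]
    apply (e x).toLinearEquiv.injective
    have := ConcreteCategory.congr_hom (he x) (CycK.sl P.arrow x.1 m)
    refine this.trans (((Submodule.Quotient.mk_eq_zero (N x)).2 ⟨m, rfl⟩).trans (map_zero _).symm)
  let l : (P : X.Modules) ⟶ kernel Φ := kernel.lift Φ P.arrow hw
  haveI : Mono l := by
    haveI : Mono (l ≫ kernel.ι Φ) := by rw [kernel.lift_ι]; infer_instance
    exact mono_of_mono l (kernel.ι Φ)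
  haveI : IsIso l := by
    refine KFlatLib.isIso_of_stalk l fun y => (ConcreteCategory.isIso_iff_bijective _).2
      ⟨CycK.sl_injective l y, fun m => ?_⟩
    suffices ∃ a, CycK.sl P.arrow y a = CycK.sl (kernel.ι Φ) y m by
      obtain ⟨a, ha⟩ := this
      refine ⟨a, CycK.sl_injective (kernel.ι Φ) y ?_⟩
      show CycK.sl (kernel.ι Φ) y (CycK.sl l y a) = _
      rw [← CycK.sl_comp_apply, kernel.lift_ι]
      exact ha
    by_cases hy : y ∈ (I.support : Set X)
    · have hyS : y ∈ S := (Set.Finite.mem_toFinset _).2 hy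
      have h0 : CycK.sl (ψ ⟨y, hyS⟩) y (CycK.sl (kernel.ι Φ) y m) = 0 := by
        rw [← biproduct.lift_π ψ ⟨y, hyS⟩, ← CycK.sl_comp_apply, ← Category.assoc, kernel.condition, zero_comp,
          CycK.sl_zero]
        rfl
      refine (Submodule.Quotient.mk_eq_zero (N ⟨y, hyS⟩)).1 ?_
      refine (ConcreteCategory.congr_hom (he ⟨y, hyS⟩) (CycK.sl (kernel.ι Φ) y m)).symm.trans ?_
      show (e ⟨y, hyS⟩).hom (CycK.sl (ψ ⟨y, hyS⟩) y (CycK.sl (kernel.ι Φ) y m)) = 0
      rw [h0, map_zero]
    · exact hoff y hy _
  exact isCoh_ofIso (asIso l).symm hK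

include k hdim hD in
/-- Modules of the same rank have restrictions to `D` of the same Euler characteristic. -/
theorem euler_resD_eq {A B : X.Modules} {n : ℕ} (hA : FlatMod.IsFinLocFreeOfRank n A)
    (hB : FlatMod.IsFinLocFreeOfRank n B) :
    Curv2.euler k X (ParSh.resD I A) = Curv2.euler k X (ParSh.resD I B) := by
  classical
  haveI := CurveCohLib.isNoetherian' (k := k) (X := X)
  let S := (finite_support k hdim I hD).toFinset
  have hsub : ∀ E : X.Modules, CohB1.support (ParSh.resD I E) ⊆ (S : Set X) := fun E y hy =>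
    Finset.mem_coe.2 ((Set.Finite.mem_toFinset _).2 (support_resD_subset I E hy))
  have hQ := (CurveCohLib.euler_eq_sum_stalks (k := k) (isCoh_quotMod I)
    (fun x hx => isClosed_singleton_of_mem_support k hdim I hD (by
      by_contra h; exact hx (subsingleton_stalk_quotMod I h))) S (fun x hx => by
      by_contra h; exact hx (subsingleton_stalk_quotMod I fun h' => h
        (Finset.mem_coe.2 ((Set.Finite.mem_toFinset _).2 h'))))).2
  have key : ∀ E : X.Modules, FlatMod.IsFinLocFreeOfRank n E →
      Curv2.euler k X (ParSh.resD I E) = ∑ x ∈ S, ((n * Module.finrank k (stk (ClSub.quotMod I) x) : ℕ) : ℤ) := by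
    intro E hE
    obtain ⟨hE', hr⟩ := ConsPropLib.isFinLocFreeOfRank_iff.1 hE
    have hEc : Coh.IsCoh E := QCoh.isCoh_iff_isFP.2 (QCoh.isFP_of_isFinLocFree hE')
    rw [(CurveCohLib.euler_eq_sum_stalks (k := k) (isCoh_resD I hEc)
      (fun y hy => isClosed_singleton_of_mem_support k hdim I hD (support_resD_subset I E hy)) S (hsub E)).1]
    refine Finset.sum_congr rfl fun x hx => congrArg Nat.cast ?_
    letI := stalkAlgK k x
    haveI := isScalarTower_stalkK k E x
    haveI := isScalarTower_stalkK k (ParSh.resD I E) x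
    haveI := isScalarTower_stalkK k (ClSub.quotMod I) x
    haveI : Module.Finite k (stk (ClSub.quotMod I) x) := hQ x hx
    haveI := QCoh.free_stalk_of_isFinLocFree hE' x
    haveI : Module.Finite (X.presheaf.stalk x) (stk E x) :=
      QCoh.finite_stalk_of_isFT hEc.1 (QCoh.isFT_of_isFP (QCoh.isFP_of_isFinLocFree hE')) _
    rw [(finrank_tensor_free k (resStalk I E x)).2, hr]
  rw [key A hA, key B hB]

end Curve

end Groth.Agent.ParShLib
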