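import Groth.Prelude.Def_ParBun
import Mathlib.MeasureTheory.Integral.IntervalIntegral.Basic
import Groth.Agent.ParShLib.Twist

/-! The parabolic Euler characteristic as the integral of the Euler characteristics of the filtration. -/

noncomputable section

set_option autoImplicit false
set_option linter.style.haveILetI false
set_option linter.unusedSectionVars false
set_option backward.isDefEq.respectTransparency false
set_option backward.isDefEq.respectTransparency.types false
set_option maxHeartbeats 400000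

universe u v

open CategoryTheory CategoryTheory.Limits AlgebraicGeometry MeasureTheory

namespace Groth.Agent.ParShLib

section

variable {C : Type u} [Category.{v} C] [HasImages C] [HasBinaryCoproducts C] [HasInitial C] [InitialMonoClass C]
  {E : C} (𝓔 : ParSh.Str E)

/-- The real filtration takes its values among the extended pieces. -/
theorem exists_at_eq (a : ℝ) : ∃ j, 𝓔.at a = 𝓔.pieceX j := by
  classical
  by_cases h : ∃ j, a ≤ 𝓔.wt j
  · let S := Finset.univ.filter fun j => a ≤ 𝓔.wt j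
    have hS : S.Nonempty := h.imp fun j hj => Finset.mem_filter.2 ⟨Finset.mem_univ _, hj⟩
    refine ⟨(S.min' hS).castSucc, ?_⟩
    rw [𝓔.pieceX_castSucc]
    refine 𝓔.at_eq_piece _ (Finset.mem_filter.1 (S.min'_mem hS)).2 fun j hj => not_le.1 fun hle => ?_
    exact not_le.2 hj (S.min'_le j (Finset.mem_filter.2 ⟨Finset.mem_univ _, hle⟩))
  · push Not at h
    exact ⟨Fin.last _, by rw [𝓔.pieceX_last]; exact 𝓔.at_eq_bot h⟩

theorem step_eq (f : Subobject E → ℝ) (a : ℝ) :
    f (𝓔.at a) = f 𝓔.bot + ∑ j : Fin (𝓔.l + 1),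
      Set.indicator {x : ℝ | x ≤ 𝓔.wt j} (fun _ => f (𝓔.piece j) - f (𝓔.pieceX j.succ)) a := by
  classical
  obtain ⟨j0, hj0, hat⟩ : ∃ j0 : Fin (𝓔.l + 2), (∀ j : Fin (𝓔.l + 1), a ≤ 𝓔.wt j ↔ j0 ≤ j.castSucc) ∧
      𝓔.at a = 𝓔.pieceX j0 := by
    by_cases h : ∃ j, a ≤ 𝓔.wt j
    · let S := Finset.univ.filter fun j => a ≤ 𝓔.wt j
      have hS : S.Nonempty := h.imp fun j hj => Finset.mem_filter.2 ⟨Finset.mem_univ _, hj⟩
      have hm : a ≤ 𝓔.wt (S.min' hS) := (Finset.mem_filter.1 (S.min'_mem hS)).2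
      refine ⟨(S.min' hS).castSucc, fun j => ⟨fun hj => ?_, fun hj => ?_⟩, ?_⟩
      · exact Fin.castSucc_le_castSucc_iff.2 (S.min'_le j (Finset.mem_filter.2 ⟨Finset.mem_univ _, hj⟩))
      · exact hm.trans (𝓔.wt_strictMono.monotone (Fin.castSucc_le_castSucc_iff.1 hj))
      rw [𝓔.pieceX_castSucc]
      refine 𝓔.at_eq_piece _ hm fun j hj => not_le.1 fun hle => ?_
      exact not_le.2 hj (S.min'_le j (Finset.mem_filter.2 ⟨Finset.mem_univ _, hle⟩))
    · push Not at h
      refine ⟨Fin.last _, fun j => ⟨fun hj => absurd hj (not_le.2 (h j)), fun hj => ?_⟩, ?_⟩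
      · exact absurd hj (not_le.2 (Fin.castSucc_lt_last j))
      · rw [𝓔.pieceX_last]; exact 𝓔.at_eq_bot h
  let c : Fin (𝓔.l + 2) → ℝ := fun j => f (𝓔.pieceX (max j0 j))
  have hterm : ∀ j : Fin (𝓔.l + 1), Set.indicator {x : ℝ | x ≤ 𝓔.wt j}
      (fun _ => f (𝓔.piece j) - f (𝓔.pieceX j.succ)) a = c j.castSucc - c j.succ := fun j => by
    by_cases hj : j0 ≤ j.castSucc
    · rw [Set.indicator_of_mem (show a ∈ {x : ℝ | x ≤ 𝓔.wt j} from (hj0 j).2 hj)]
      show _ = f (𝓔.pieceX (max j0 j.castSucc)) - f (𝓔.pieceX (max j0 j.succ))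
      rw [max_eq_right hj, max_eq_right (hj.trans (Fin.castSucc_lt_succ (i := j)).le), 𝓔.pieceX_castSucc]
    · rw [Set.indicator_of_notMem (show a ∉ {x : ℝ | x ≤ 𝓔.wt j} from fun h => hj ((hj0 j).1 h))]
      show _ = f (𝓔.pieceX (max j0 j.castSucc)) - f (𝓔.pieceX (max j0 j.succ))
      rw [max_eq_left (not_le.1 hj).le, max_eq_left (Fin.castSucc_lt_iff_succ_le.1 (not_le.1 hj)), sub_self]
  rw [Finset.sum_congr rfl fun j _ => hterm j, Finset.sum_sub_distrib]
  have e1 := Fin.sum_univ_succ c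
  have e2 := Fin.sum_univ_castSucc c
  have e3 : c (Fin.last _) = f 𝓔.bot := by
    show f (𝓔.pieceX (max j0 (Fin.last _))) = _
    rw [max_eq_right (Fin.le_last _), 𝓔.pieceX_last]
  have e4 : c 0 = f (𝓔.at a) := by
    show f (𝓔.pieceX (max j0 0)) = _
    rw [max_eq_left (Fin.zero_le _), hat]
  linarith

theorem intervalIntegrable_step (w c : ℝ) :
    IntervalIntegrable (Set.indicator {x : ℝ | x ≤ w} fun _ => c) volume 0 1 := by
  refine ⟨IntegrableOn.indicator ?_ measurableSet_Iic, IntegrableOn.indicator ?_ measurableSet_Iic⟩ <;>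
    exact integrableOn_const (by simp) (by simp)

/-- The weighted combination is the integral over the filtration. -/
theorem integral_at (f : Subobject E → ℝ) :
    ∫ a in (0 : ℝ)..1, f (𝓔.at a) =
      f 𝓔.bot + ∑ j : Fin (𝓔.l + 1), 𝓔.wt j * (f (𝓔.piece j) - f (𝓔.pieceX j.succ)) := by
  simp only [step_eq 𝓔 f]
  rw [intervalIntegral.integral_add intervalIntegrable_const (by
      simpa [Finset.sum_fn] using IntervalIntegrable.sum (μ := volume) (a := (0 : ℝ)) (b := 1) Finset.univ
        (f := fun j : Fin (𝓔.l + 1) => Set.indicator {x : ℝ | x ≤ 𝓔.wt j} fun _ => f (𝓔.piece j) - f (𝓔.pieceX j.succ))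
        fun j _ => intervalIntegrable_step _ _),
    intervalIntegral.integral_finsetSum fun j _ => intervalIntegrable_step _ _,
    intervalIntegral.integral_const, sub_zero, one_smul]
  refine congrArg _ (Finset.sum_congr rfl fun j _ => ?_)
  rw [intervalIntegral.integral_indicator ⟨𝓔.wt_nonneg.trans (𝓔.wt_strictMono.monotone (Fin.zero_le j)),
      (𝓔.wt_strictMono.monotone (Fin.le_last j)).trans 𝓔.wt_lt_one.le⟩,
    intervalIntegral.integral_const, sub_zero, smul_eq_mul]

theorem intervalIntegrable_at (f : Subobject E → ℝ) :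
    IntervalIntegrable (fun a => f (𝓔.at a)) volume 0 1 := by
  simp only [step_eq 𝓔 f]
  exact intervalIntegrable_const.add (by
    simpa [Finset.sum_fn] using IntervalIntegrable.sum (μ := volume) (a := (0 : ℝ)) (b := 1) Finset.univ
      (f := fun j : Fin (𝓔.l + 1) => Set.indicator {x : ℝ | x ≤ 𝓔.wt j} fun _ => f (𝓔.piece j) - f (𝓔.pieceX j.succ))
      fun j _ => intervalIntegrable_step _ _)

end

end Groth.Agent.ParShLib
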