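import Groth.Agent.ParShLib.Twist
import Groth.Agent.ParShLib.Integral
import Groth.Agent.CurveCohLib.SubBundle

/-! Parabolic degrees on a curve, as integrals. -/

noncomputable section

set_option autoImplicit false
set_option linter.style.haveILetI false
set_option linter.unusedSectionVars false
set_option backward.isDefEq.respectTransparency false
set_option backward.isDefEq.respectTransparency.types false
set_option maxHeartbeats 800000

universe u v

open CategoryTheory CategoryTheory.Limits AlgebraicGeometry MeasureTheory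

namespace Groth.Agent.ParShLib

open Groth.Agent

variable {C : Type u} [Category.{v} C] [HasImages C] [HasBinaryCoproducts C] [HasInitial C] [InitialMonoClass C]

/-- Evaluation of the real filtration commutes with pull-back. -/
theorem induced_at [HasPullbacks C] {E F : C} (𝓔 : ParSh.Str E) (i : F ⟶ E) (a : ℝ) :
    (𝓔.induced i).at a = (Subobject.pullback i).obj (𝓔.at a) := by
  classical
  by_cases h : ∃ j, a ≤ 𝓔.wt j
  · let S := Finset.univ.filter fun j => a ≤ 𝓔.wt j
    have hS : S.Nonempty := h.imp fun j hj => Finset.mem_filter.2 ⟨Finset.mem_univ _, hj⟩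
    have hm : a ≤ 𝓔.wt (S.min' hS) := (Finset.mem_filter.1 (S.min'_mem hS)).2
    have hlt : ∀ j < S.min' hS, 𝓔.wt j < a := fun j hj => not_le.1 fun hle =>
      not_le.2 hj (S.min'_le j (Finset.mem_filter.2 ⟨Finset.mem_univ _, hle⟩))
    rw [𝓔.at_eq_piece _ hm hlt, (𝓔.induced i).at_eq_piece (S.min' hS) hm hlt]
    rfl
  · push Not at h
    rw [𝓔.at_eq_bot h, (𝓔.induced i).at_eq_bot h]
    rfl

variable {X : Scheme.{u}} (k : Type u) [Field k] [X.Over (Spec (CommRingCat.of k))]

/-- The parabolic degree as an integral. -/
theorem parDeg_eq {E : X.Modules} (𝓔 : ParSh.Str E) (r : ℕ) :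
    𝓔.parDeg k X r = ((Curv2.euler k X E : ℝ) - Curv2.euler k X (𝓔.bot : X.Modules)) +
      (∫ a in (0 : ℝ)..1, (Curv2.euler k X (𝓔.at a : X.Modules) : ℝ)) -
      (r : ℝ) * Curv2.euler k X (Coh.structureModule X) := by
  rw [integral_at 𝓔 fun A : Subobject E => (Curv2.euler k X (A : X.Modules) : ℝ)]
  unfold ParSh.Str.parDeg ParSh.Str.parWt Curv2.deg
  push_cast
  ring

variable [IsIntegral X] [IsProper (X ↘ Spec (CommRingCat.of k))] (hdim : topologicalKrullDim X = 1)

include k hdim in
/-- A submodule of the same generic rank has smaller Euler characteristic. -/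
theorem euler_le_of_mono {A B : X.Modules} (f : A ⟶ B) [Mono f] (hA : Coh.IsCoh A) (hB : Coh.IsCoh B)
    (hr : CurveCohLib.genRank A = CurveCohLib.genRank B) : Curv2.euler k X A ≤ Curv2.euler k X B := by
  haveI := CurveCohLib.isNoetherian' (k := k) (X := X)
  have hS : (ShortComplex.mk f (cokernel.π f) (cokernel.condition f)).ShortExact :=
    { exact := ShortComplex.exact_of_g_is_cokernel _ (cokernelIsCokernel f) }
  have hC : Coh.IsCoh (cokernel f) := QCoh.isCoh_cokernel hA.1 hB f
  have h0 : ∀ x ∈ CohB1.support (cokernel f), IsClosed ({x} : Set X) := fun x hx => by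
    by_contra hne
    obtain rfl := CurveCohLib.eq_genericPoint_of_not_isClosed hdim hne
    have h := CurveCohLib.genRank_add hS hB
    change CurveCohLib.genRank B = CurveCohLib.genRank A + CurveCohLib.genRank (cokernel f) at h
    haveI : Module.Finite (X.presheaf.stalk (genericPoint X)) ((cokernel f).presheaf.stalk (genericPoint X)) :=
      QCoh.finite_stalk_of_isFT hC.1 (QCoh.isFT_of_isFP (QCoh.isCoh_iff_isFP.1 hC)) _
    letI : Field (X.presheaf.stalk (genericPoint X)) := inferInstanceAs (Field X.functionField)
    exact hx (Module.finrank_zero_iff.1 (show CurveCohLib.genRank (cokernel f) = 0 by omega))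
  have hfin : (CohB1.support (cokernel f)).Finite :=
    CurveCohLib.finite_of_closedPoints (QCoh.isClosed_support_of_isFT hC.1 hC.2) h0
  have h3 := CurveCohLib.euler_additive (k := k) hS hA hB hC
  dsimp only at h3
  rw [(CurveCohLib.euler_eq_sum_stalks (k := k) hC h0 hfin.toFinset (fun x hx => by simpa using hx)).1] at h3
  have := Finset.sum_nonneg (f := fun x => ((letI := CurveCohLib.stalkModuleK k (cokernel f) x; Module.finrank k ((cokernel f).presheaf.stalk x) : ℕ) : ℤ))
    (s := hfin.toFinset) fun x _ => Int.natCast_nonneg _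
  linarith

variable (I : X.IdealSheafData) (hD : FGA.IsEffCartier I)

include hD in
/-- Submodules containing `I·E` have the generic rank of `E`. -/
theorem genRank_of_twistSub_le {E : X.Modules} {P : Subobject E} (hP : ParSh.twistSub I E ≤ P) :
    CurveCohLib.genRank (P : X.Modules) = CurveCohLib.genRank E := by
  let η := genericPoint X
  haveI := isOn_twistSub I E (genericPoint_notMem_support I hD)
  have hb : Function.Bijective (CycK.sl P.arrow η) := by
    refine ⟨CycK.sl_injective P.arrow η, fun m => ?_⟩
    obtain ⟨a, ha⟩ := (ModuleCat.epi_iff_surjective _).1 (isOn_twistSub I E (genericPoint_notMem_support I hD)) m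
    refine ⟨CycK.sl (Subobject.ofLE _ _ hP) η a, ?_⟩
    rw [← CycK.sl_comp_apply, Subobject.ofLE_arrow]
    exact ha
  exact (LinearEquiv.ofBijective _ hb).finrank_eq

/-- Euler characteristic of `I·E`. -/
theorem euler_twistSub [IsLocallyNoetherian X] {E : X.Modules} (hE : Coh.IsCoh E) :
    Curv2.euler k X E = Curv2.euler k X ((ParSh.twistSub I E : Subobject E) : X.Modules) +
      Curv2.euler k X (ParSh.resD I E) := by
  have h := CurveCohLib.euler_additive (k := k) (shortExact_twistSub I E) (isCoh_twistSub I hE) hE (isCoh_resD I hE)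
  dsimp only at h
  exact h

end Groth.Agent.ParShLib
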