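import Groth.Agent.ParShLib.POne

/-! Comparing parabolic polynomials of structures with the same weights. -/

noncomputable section

set_option autoImplicit false
set_option linter.style.haveILetI false
set_option linter.unusedSectionVars false
set_option backward.isDefEq.respectTransparency false
set_option backward.isDefEq.respectTransparency.types false
set_option maxHeartbeats 800000

universe u v

open CategoryTheory CategoryTheory.Limits AlgebraicGeometry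
open scoped Polynomial

namespace Groth.Agent.ParShLib

open Groth.Agent W4swparbununimod

theorem eval_eq_head_add {C : Type u} [Category.{v} C] {E : C} (𝓔 : ParSh.Str E) {P : ℚ[X]}
    {PX : Fin (𝓔.l + 2) → ℚ[X]} (h0 : PX 0 = P) (m : ℕ) :
    (parPoly 𝓔 PX).eval (m : ℝ) = 𝓔.wt 0 * ((P.eval (m : ℚ) : ℚ) : ℝ) +
      ∑ j : Fin (𝓔.l + 1), (𝓔.wtX j.succ - 𝓔.wtX j.castSucc) * (((PX j.succ).eval (m : ℚ) : ℚ) : ℝ) := by
  rw [parPoly_eval 𝓔 h0 m]
  simp only [mul_sub, Finset.sum_sub_distrib]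
  rw [← Finset.sum_mul, sum_wt_diff]
  ring

theorem wt_diff_pos {C : Type u} [Category.{v} C] {E : C} (𝓔 : ParSh.Str E) (j : Fin (𝓔.l + 1)) :
    0 < 𝓔.wtX j.succ - 𝓔.wtX j.castSucc := by
  rw [sub_pos, 𝓔.wtX_castSucc]
  induction j using Fin.lastCases with
  | last => rw [Fin.succ_last, 𝓔.wtX_last]; exact 𝓔.wt_lt_one
  | cast i =>
    rw [Fin.succ_castSucc, 𝓔.wtX_castSucc]
    exact 𝓔.wt_strictMono (Fin.castSucc_lt_succ (i := i))

/-- Equality of the parabolic polynomials forces equality of all the polynomials. -/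
theorem polys_eq_of_parPoly {C : Type u} [Category.{v} C] {E E' : C} (n : ℕ) (w : Fin (n + 2) → ℝ) (w0 : ℝ)
    (hw0 : 0 < w0) (hd : ∀ j : Fin (n + 1), 0 < w j.succ - w j.castSucc) {Q Q' : ℚ[X]}
    {A A' : Fin (n + 2) → ℚ[X]} (hQ : ∃ M : ℕ, ∀ m : ℕ, M ≤ m → Q.eval (m : ℚ) ≤ Q'.eval (m : ℚ))
    (hA : ∀ j, ∃ M : ℕ, ∀ m : ℕ, M ≤ m → (A j).eval (m : ℚ) ≤ (A' j).eval (m : ℚ))
    (he : ∃ M : ℕ, ∀ m : ℕ, M ≤ m →
      w0 * ((Q'.eval (m : ℚ) : ℚ) : ℝ) + ∑ j : Fin (n + 1), (w j.succ - w j.castSucc) * (((A' j.succ).eval (m : ℚ) : ℚ) : ℝ) ≤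
      w0 * ((Q.eval (m : ℚ) : ℚ) : ℝ) + ∑ j : Fin (n + 1), (w j.succ - w j.castSucc) * (((A j.succ).eval (m : ℚ) : ℚ) : ℝ)) :
    Q = Q' ∧ ∀ j : Fin (n + 1), A j.succ = A' j.succ := by
  obtain ⟨M₀, h₀⟩ := hQ
  choose M hM using hA
  obtain ⟨M₁, h₁⟩ := he
  let N := max M₀ (max M₁ (Finset.univ.sup M))
  have key : ∀ m : ℕ, N ≤ m → Q.eval (m : ℚ) = Q'.eval (m : ℚ) ∧
      ∀ j : Fin (n + 1), (A j.succ).eval (m : ℚ) = (A' j.succ).eval (m : ℚ) := by
    intro m hm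
    simp only [N, max_le_iff] at hm
    have hq := Rat.cast_le (K := ℝ).2 (h₀ m hm.1)
    have ha : ∀ j : Fin (n + 1), (((A j.succ).eval (m : ℚ) : ℚ) : ℝ) ≤ (((A' j.succ).eval (m : ℚ) : ℚ) : ℝ) :=
      fun j => Rat.cast_le.2 (hM j.succ m ((Finset.le_sup (Finset.mem_univ _)).trans hm.2.2))
    have hge : ∀ j ∈ (Finset.univ : Finset (Fin (n + 1))), 0 ≤ (w j.succ - w j.castSucc) *
        ((((A' j.succ).eval (m : ℚ) : ℚ) : ℝ) - (((A j.succ).eval (m : ℚ) : ℚ) : ℝ)) :=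
      fun j _ => mul_nonneg (hd j).le (sub_nonneg.2 (ha j))
    have hsum : w0 * (((Q'.eval (m : ℚ) : ℚ) : ℝ) - ((Q.eval (m : ℚ) : ℚ) : ℝ)) +
        ∑ j : Fin (n + 1), (w j.succ - w j.castSucc) *
          ((((A' j.succ).eval (m : ℚ) : ℚ) : ℝ) - (((A j.succ).eval (m : ℚ) : ℚ) : ℝ)) ≤ 0 := by
      simp only [mul_sub, Finset.sum_sub_distrib]
      linarith [h₁ m hm.2.1]
    have hs0 := Finset.sum_nonneg hge
    have hq0 : (0 : ℝ) ≤ w0 * (((Q'.eval (m : ℚ) : ℚ) : ℝ) - ((Q.eval (m : ℚ) : ℚ) : ℝ)) :=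
      mul_nonneg hw0.le (sub_nonneg.2 hq)
    refine ⟨?_, fun j => ?_⟩
    · have h := (mul_eq_zero.1 (le_antisymm (by linarith) hq0)).resolve_left hw0.ne'
      exact Rat.cast_inj.1 (sub_eq_zero.1 h).symm
    · have h := (mul_eq_zero.1 ((Finset.sum_eq_zero_iff_of_nonneg hge).1 (le_antisymm (by linarith) hs0) j
        (Finset.mem_univ j))).resolve_left (hd j).ne'
      exact Rat.cast_inj.1 (sub_eq_zero.1 h).symm
  exact ⟨HilbPoly.poly_ext N fun m hm => (key m hm).1, fun j => HilbPoly.poly_ext N fun m hm => (key m hm).2 j⟩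

variable {X : Scheme.{u}} {k : Type u} [Field k] [X.Over (Spec (CommRingCat.of k))]
  [IsProper (X ↘ Spec (CommRingCat.of k))] {L : X.Modules}

/-- Monomorphisms increase Hilbert polynomials; equality forces an isomorphism. -/
theorem hilb_mono (hL : CohB1.IsAmple L) {A B : X.Modules} (f : A ⟶ B) [Mono f] (hA : Coh.IsCoh A)
    (hB : Coh.IsCoh B) {d : ℕ} (hd : topologicalKrullDim ↥(CohB1.support B) ≤ (d : WithBot ℕ∞)) {p q : ℚ[X]}
    (hp : ShStab.IsHilbPoly k X L A p) (hq : ShStab.IsHilbPoly k X L B q) :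
    (∃ M : ℕ, ∀ m : ℕ, M ≤ m → p.eval (m : ℚ) ≤ q.eval (m : ℚ)) ∧ (p = q → IsIso f) := by
  haveI := CurveCohLib.isNoetherian_of_proper (k := k) (X := X)
  obtain ⟨hC, hdC, hpC⟩ := HilbPoly.cokernel_data hL hA hB hd f hp hq
  refine ⟨?_, fun h => ?_⟩
  · obtain ⟨N, hN⟩ := eval_nonneg k hL hC hpC
    exact ⟨N, fun m hm => by have := hN m hm; rw [Polynomial.eval_sub] at this; linarith⟩
  · haveI : Epi f := Preadditive.epi_of_isZero_cokernel _ (by
      by_contra hz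
      obtain ⟨N, hN⟩ := HilbPoly.hilb_eventually_pos hL hC hz hdC hpC
      have := hN N le_rfl
      rw [h, sub_self, Polynomial.eval_zero] at this
      exact lt_irrefl _ this)
    exact isIso_of_mono_of_epi f

theorem subobject_eq_of_hilb (hL : CohB1.IsAmple L) {E : X.Modules} {A B : Subobject E} (h : A ≤ B)
    (hA : Coh.IsCoh (A : X.Modules)) (hB : Coh.IsCoh (B : X.Modules)) {d : ℕ}
    (hd : topologicalKrullDim ↥(CohB1.support (B : X.Modules)) ≤ (d : WithBot ℕ∞)) {p : ℚ[X]}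
    (hp : ShStab.IsHilbPoly k X L (A : X.Modules) p) (hq : ShStab.IsHilbPoly k X L (B : X.Modules) p) : A = B := by
  haveI := (hilb_mono hL (Subobject.ofLE A B h) hA hB hd hp hq).2 rfl
  exact Subobject.eq_of_comm (asIso (Subobject.ofLE A B h)) (Subobject.ofLE_arrow h)

theorem isZero_piece {E : X.Modules} (hz : IsZero E) (A : Subobject E) : IsZero (A : X.Modules) :=
  IsZero.of_mono A.arrow hz

/-- The parabolic polynomial of the zero module. -/
theorem parPoly_eq_zero {E : X.Modules} (hz : IsZero E) (𝓔 : ParSh.Str E) {PX : Fin (𝓔.l + 2) → ℚ[X]}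
    (hPX : ∀ j, ShStab.IsHilbPoly k X L ((𝓔.pieceX j : Subobject E) : X.Modules) (PX j)) :
    parPoly 𝓔 PX = 0 := by
  have h : ∀ j, PX j = 0 := fun j =>
    HilbPoly.isHilbPoly_unique (hPX j) (HilbPoly.hilb_isZero (isZero_piece hz _))
  simp [parPoly, h]

theorem isPure_of_mono {A B : X.Modules} (f : A ⟶ B) [Mono f] {d : ℕ} (h : ShStab.IsPure X B d) :
    ShStab.IsPure X A d := fun G g hg hG hG0 =>
  haveI := hg
  h G (g ≫ f) inferInstance hG hG0

theorem coinduced_pieceX {E G : X.Modules} (𝓔 : ParSh.Str E) (q : E ⟶ G) [Epi q] (j : Fin (𝓔.l + 2)) :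
    (𝓔.coinduced q).pieceX j = imageSubobject ((𝓔.pieceX j).arrow ≫ q) := by
  induction j using Fin.lastCases with
  | last =>
    rw [𝓔.pieceX_last]
    exact (𝓔.coinduced q).pieceX_last
  | cast j =>
    rw [𝓔.pieceX_castSucc]
    exact (𝓔.coinduced q).pieceX_castSucc j

end Groth.Agent.ParShLib
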