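import Groth.Agent.ParShLib.Coeff
import Groth.Agent.ParShLib.Asymp
import Groth.Agent.HilbPoly.Sat
import Mathlib.CategoryTheory.Abelian.CommSq

/-! The first modified parabolic polynomial is dominated by the parabolic polynomial. -/

noncomputable section

set_option autoImplicit false
set_option linter.style.haveILetI false
set_option linter.unusedSectionVars false
set_option backward.isDefEq.respectTransparency false
set_option backward.isDefEq.respectTransparency.types false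
set_option maxHeartbeats 800000

universe u v

open CategoryTheory CategoryTheory.Limits AlgebraicGeometry
open scoped Polynomial

namespace Groth.Agent.ParShLib

open Groth.Agent W4swparbununimod

theorem parPoly_eval {C : Type u} [Category.{v} C] {E : C} (𝓔 : ParSh.Str E) {P : ℚ[X]}
    {PX : Fin (𝓔.l + 2) → ℚ[X]} (h0 : PX 0 = P) (m : ℕ) :
    (parPoly 𝓔 PX).eval (m : ℝ) = ((P.eval (m : ℚ) : ℚ) : ℝ) -
      ∑ j : Fin (𝓔.l + 1), (𝓔.wtX j.succ - 𝓔.wtX j.castSucc) *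
        (((P.eval (m : ℚ) : ℚ) : ℝ) - (((PX j.succ).eval (m : ℚ) : ℚ) : ℝ)) := by
  have h : parPoly 𝓔 PX = rpoly P - ∑ j : Fin (𝓔.l + 1),
      Polynomial.C (𝓔.wtX j.succ - 𝓔.wtX j.castSucc) * (rpoly P - rpoly (PX j.succ)) := by
    refine Polynomial.ext fun n => ?_
    rw [parPoly_coeff 𝓔 P PX h0 n]
    simp [rpoly, Polynomial.coeff_map, Polynomial.coeff_C_mul, -map_sub]
  rw [h, Polynomial.eval_sub, Polynomial.eval_finsetSum, eval_rpoly]
  refine congrArg _ (Finset.sum_congr rfl fun j _ => ?_)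
  rw [Polynomial.eval_mul, Polynomial.eval_C, Polynomial.eval_sub, eval_rpoly, eval_rpoly]

theorem wt_diff_nonneg {C : Type u} [Category.{v} C] {E : C} (𝓔 : ParSh.Str E) (j : Fin (𝓔.l + 1)) :
    0 ≤ 𝓔.wtX j.succ - 𝓔.wtX j.castSucc := by
  rw [sub_nonneg, 𝓔.wtX_castSucc]
  induction j using Fin.lastCases with
  | last => rw [Fin.succ_last, 𝓔.wtX_last]; exact 𝓔.wt_lt_one.le
  | cast i =>
    rw [Fin.succ_castSucc, 𝓔.wtX_castSucc]
    exact (𝓔.wt_strictMono (Fin.castSucc_lt_succ (i := i))).le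

theorem sum_wt_diff {C : Type u} [Category.{v} C] {E : C} (𝓔 : ParSh.Str E) :
    ∑ j : Fin (𝓔.l + 1), (𝓔.wtX j.succ - 𝓔.wtX j.castSucc) = 1 - 𝓔.wt 0 := by
  rw [Finset.sum_sub_distrib]
  have e1 := Fin.sum_univ_succ 𝓔.wtX
  have e2 := Fin.sum_univ_castSucc 𝓔.wtX
  have e3 : 𝓔.wtX 0 = 𝓔.wt 0 := 𝓔.wtX_castSucc 0
  have e4 := 𝓔.wtX_last
  linarith

variable {X : Scheme.{u}} {k : Type u} [Field k] [X.Over (Spec (CommRingCat.of k))]
  [IsProper (X ↘ Spec (CommRingCat.of k))] {L : X.Modules}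

/-- Reduced comparison with a semistable module, allowing the zero and the improper submodule. -/
theorem sub_le_semistable (hL : CohB1.IsAmple L) {d : ℕ} {A B : X.Modules} (hB : ShStab.IsSemistable k X L B d)
    (φ : A ⟶ B) [Mono φ] (hA : Coh.IsCoh A) {P H : ℚ[X]} (hP : ShStab.IsHilbPoly k X L A P)
    (hH : ShStab.IsHilbPoly k X L B H) : ∃ M : ℕ, ∀ m : ℕ, M ≤ m →
      P.eval (m : ℚ) ≤ StabCat.alpha d P / StabCat.alpha d H * H.eval (m : ℚ) := by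
  haveI := CurveCohLib.isNoetherian_of_proper (k := k) (X := X)
  have hpos := HilbPoly.alpha_pos hL hB.1 (HilbPoly.dim_of_isPure hB.2.2.1 hB.1 hB.2.1) hH
  by_cases hz : IsZero A
  · obtain rfl := HilbPoly.isHilbPoly_unique hP (HilbPoly.hilb_isZero hz)
    exact ⟨0, fun m _ => by simp [StabCat.alpha]⟩
  by_cases hi : IsIso φ
  · obtain rfl := HilbPoly.isHilbPoly_unique (HilbPoly.hilb_iso (asIso φ) hP) hH
    exact ⟨0, fun m _ => by rw [div_self hpos.ne', one_mul]⟩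
  obtain ⟨M, hM⟩ := hB.2.2.2 A φ inferInstance hA hz hi P H hP hH
  refine ⟨M, fun m hm => ?_⟩
  have := hM m hm
  simp only [Polynomial.eval_smul, smul_eq_mul] at this
  rw [div_mul_eq_mul_div, le_div_iff₀ hpos]
  linarith

/-- The quotient of an induced piece embeds in the quotient of the piece. -/
theorem exists_mono_cokernel {E W : X.Modules} (𝓔 : ParSh.Str E) (ι : W ⟶ E) [Mono ι] (j : Fin (𝓔.l + 2)) :
    ∃ φ : cokernel ((𝓔.induced ι).pieceX j).arrow ⟶ cokernel (𝓔.pieceX j).arrow, Mono φ := by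
  rw [induced_pieceX 𝓔 ι j]
  exact ⟨_, Abelian.mono_cokernel_map_of_isPullback (Subobject.isPullback ι (𝓔.pieceX j)).flip⟩

/-- With semistable quotients the modified polynomial is dominated by the parabolic one. -/
theorem parPolyOne_le (hL : CohB1.IsAmple L) {E : X.Modules} (hE : Coh.IsCoh E) (𝓔 : ParSh.Str E)
    (hcoh : ∀ j, Coh.IsCoh ((𝓔.pieceX j : Subobject E) : X.Modules)) {d : ℕ}
    {H : Fin (𝓔.l + 2) → ℚ[X]} (hH : ∀ j, ShStab.IsHilbPoly k X L (cokernel (𝓔.pieceX j).arrow) (H j))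
    (hq : ∀ j : Fin (𝓔.l + 1), ShStab.IsSemistable k X L (cokernel (𝓔.pieceX j.succ).arrow) (d - 1))
    {W : X.Modules} (ι : W ⟶ E) [Mono ι] (hW : Coh.IsCoh W) {Q : ℚ[X]} (hQ : ShStab.IsHilbPoly k X L W Q)
    {QX : Fin (𝓔.l + 2) → ℚ[X]}
    (hQX : ∀ j, ShStab.IsHilbPoly k X L (((𝓔.induced ι).pieceX j : Subobject W) : X.Modules) (QX j))
    {QH : Fin (𝓔.l + 2) → ℚ[X]}
    (hQH : ∀ j, ShStab.IsHilbPoly k X L (cokernel ((𝓔.induced ι).pieceX j).arrow) (QH j)) :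
    ∃ M : ℕ, ∀ m : ℕ, M ≤ m → (parPolyOne 𝓔 d Q QH H).eval (m : ℝ) ≤ (parPoly (𝓔.induced ι) QX).eval (m : ℝ) := by
  haveI := CurveCohLib.isNoetherian_of_proper (k := k) (X := X)
  have hcW : ∀ j, Coh.IsCoh (((𝓔.induced ι).pieceX j : Subobject W) : X.Modules) := fun j =>
    isCoh_induced hE hW 𝓔 ι hcoh j
  have hQH' : ∀ j, QH j = Q - QX j := fun j => eq_of_eval_nat fun n =>
    (hQH j n).symm.trans (hilb_cokernel k hL _ (hcW j) hW hQ (hQX j) n)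
  have key : ∀ j : Fin (𝓔.l + 1), ∃ M : ℕ, ∀ m : ℕ, M ≤ m → (QH j.succ).eval (m : ℚ) ≤
      StabCat.alpha (d - 1) (QH j.succ) / StabCat.alpha (d - 1) (H j.succ) * (H j.succ).eval (m : ℚ) := fun j => by
    obtain ⟨φ, hφ⟩ := exists_mono_cokernel 𝓔 ι j.succ
    haveI := hφ
    exact sub_le_semistable hL (hq j) φ (QCoh.isCoh_cokernel (hcW j.succ).1 hW _) (hQH j.succ) (hH j.succ)
  choose M hM using key
  refine ⟨Finset.univ.sup M, fun m hm => ?_⟩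
  have e2 : ((parPoly (𝓔.induced ι) QX).eval (m : ℝ)) = ((Q.eval (m : ℚ) : ℚ) : ℝ) -
      ∑ j : Fin (𝓔.l + 1), (𝓔.wtX j.succ - 𝓔.wtX j.castSucc) *
        (((Q.eval (m : ℚ) : ℚ) : ℝ) - (((QX j.succ).eval (m : ℚ) : ℚ) : ℝ)) :=
    parPoly_eval (𝓔.induced ι) (hilb_zero k hL (𝓔.induced ι) hQ hQX) m
  rw [e2, parPolyOne, Polynomial.eval_sub, Polynomial.eval_finsetSum, eval_rpoly]
  refine sub_le_sub_left (Finset.sum_le_sum fun j _ => ?_) _
  rw [Polynomial.eval_mul, Polynomial.eval_C, eval_rpoly, mul_assoc, ← Rat.cast_sub, ← Rat.cast_mul]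
  refine mul_le_mul_of_nonneg_left ?_ (wt_diff_nonneg 𝓔 j)
  refine Rat.cast_le.2 ?_
  have h := hM j m ((Finset.le_sup (Finset.mem_univ j)).trans hm)
  rw [hQH' j.succ] at h ⊢
  rw [Polynomial.eval_sub] at h
  exact h

/-- The parabolic polynomial grows with the submodule. -/
theorem parPoly_mono (hL : CohB1.IsAmple L) {E : X.Modules} (hE : Coh.IsCoh E) (𝓔 : ParSh.Str E)
    (hcoh : ∀ j, Coh.IsCoh ((𝓔.pieceX j : Subobject E) : X.Modules))
    {W W' : X.Modules} (ι : W ⟶ E) [Mono ι] (ι' : W' ⟶ E) [Mono ι'] (l : W ⟶ W') (hl : l ≫ ι' = ι)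
    (hW : Coh.IsCoh W) (hW' : Coh.IsCoh W') {Q Q' : ℚ[X]} (hQ : ShStab.IsHilbPoly k X L W Q)
    (hQ' : ShStab.IsHilbPoly k X L W' Q') {QX : Fin (𝓔.l + 2) → ℚ[X]}
    (hQX : ∀ j, ShStab.IsHilbPoly k X L (((𝓔.induced ι).pieceX j : Subobject W) : X.Modules) (QX j))
    {QX' : Fin (𝓔.l + 2) → ℚ[X]}
    (hQX' : ∀ j, ShStab.IsHilbPoly k X L (((𝓔.induced ι').pieceX j : Subobject W') : X.Modules) (QX' j)) :
    ∃ M : ℕ, ∀ m : ℕ, M ≤ m →
      (parPoly (𝓔.induced ι) QX).eval (m : ℝ) ≤ (parPoly (𝓔.induced ι') QX').eval (m : ℝ) := by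
  haveI := CurveCohLib.isNoetherian_of_proper (k := k) (X := X)
  haveI : Mono (l ≫ ι') := by rw [hl]; infer_instance
  haveI : Mono l := mono_of_mono l ι'
  have hcW : ∀ j, Coh.IsCoh (((𝓔.induced ι).pieceX j : Subobject W) : X.Modules) := fun j =>
    isCoh_induced hE hW 𝓔 ι hcoh j
  have hcW' : ∀ j, Coh.IsCoh (((𝓔.induced ι').pieceX j : Subobject W') : X.Modules) := fun j =>
    isCoh_induced hE hW' 𝓔 ι' hcoh j
  have cmp : ∀ {A B : X.Modules} (f : A ⟶ B) [Mono f], Coh.IsCoh A → Coh.IsCoh B → ∀ {p q : ℚ[X]},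
      ShStab.IsHilbPoly k X L A p → ShStab.IsHilbPoly k X L B q →
      ∃ M : ℕ, ∀ m : ℕ, M ≤ m → p.eval (m : ℚ) ≤ q.eval (m : ℚ) := by
    intro A B f _ hA hB p q hp hq
    obtain ⟨N, hN⟩ := eval_nonneg k hL (QCoh.isCoh_cokernel hA.1 hB f) (hilb_cokernel k hL f hA hB hq hp)
    exact ⟨N, fun m hm => by have := hN m hm; rw [Polynomial.eval_sub] at this; linarith⟩
  have key : ∀ j, ∃ M : ℕ, ∀ m : ℕ, M ≤ m → (QX j).eval (m : ℚ) ≤ (QX' j).eval (m : ℚ) := fun j => by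
    have he : (𝓔.induced ι).pieceX j = (Subobject.pullback l).obj ((𝓔.induced ι').pieceX j) := by
      rw [induced_pieceX 𝓔 ι j, induced_pieceX 𝓔 ι' j, ← hl, Subobject.pullback_comp]
    have hc := hcW j
    have hp := hQX j
    rw [he] at hc hp
    haveI : Mono (Subobject.pullbackπ l ((𝓔.induced ι').pieceX j)) :=
      (Subobject.isPullback l ((𝓔.induced ι').pieceX j)).mono_fst_of_mono
    exact cmp (Subobject.pullbackπ l ((𝓔.induced ι').pieceX j)) hc (hcW' j) hp (hQX' j)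
  choose M hM using key
  obtain ⟨M₀, hM₀⟩ := cmp l hW hW' hQ hQ'
  refine ⟨max M₀ (Finset.univ.sup M), fun m hm => ?_⟩
  have e1 : ((parPoly (𝓔.induced ι) QX).eval (m : ℝ)) = ((Q.eval (m : ℚ) : ℚ) : ℝ) -
      ∑ j : Fin (𝓔.l + 1), (𝓔.wtX j.succ - 𝓔.wtX j.castSucc) *
        (((Q.eval (m : ℚ) : ℚ) : ℝ) - (((QX j.succ).eval (m : ℚ) : ℚ) : ℝ)) :=
    parPoly_eval (𝓔.induced ι) (hilb_zero k hL (𝓔.induced ι) hQ hQX) m
  have e2 : ((parPoly (𝓔.induced ι') QX').eval (m : ℝ)) = ((Q'.eval (m : ℚ) : ℚ) : ℝ) -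
      ∑ j : Fin (𝓔.l + 1), (𝓔.wtX j.succ - 𝓔.wtX j.castSucc) *
        (((Q'.eval (m : ℚ) : ℚ) : ℝ) - (((QX' j.succ).eval (m : ℚ) : ℚ) : ℝ)) :=
    parPoly_eval (𝓔.induced ι') (hilb_zero k hL (𝓔.induced ι') hQ' hQX') m
  rw [e1, e2]
  have hΔ : (0 : ℝ) ≤ ((Q'.eval (m : ℚ) : ℚ) : ℝ) - ((Q.eval (m : ℚ) : ℚ) : ℝ) :=
    sub_nonneg.2 (Rat.cast_le.2 (hM₀ m (le_trans (le_max_left _ _) hm)))
  have hs : ∑ j : Fin (𝓔.l + 1), (𝓔.wtX j.succ - 𝓔.wtX j.castSucc) *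
      ((((Q'.eval (m : ℚ) : ℚ) : ℝ) - (((QX' j.succ).eval (m : ℚ) : ℚ) : ℝ)) -
        (((Q.eval (m : ℚ) : ℚ) : ℝ) - (((QX j.succ).eval (m : ℚ) : ℚ) : ℝ))) ≤
      ∑ j : Fin (𝓔.l + 1), (𝓔.wtX j.succ - 𝓔.wtX j.castSucc) *
        (((Q'.eval (m : ℚ) : ℚ) : ℝ) - ((Q.eval (m : ℚ) : ℚ) : ℝ)) := by
    refine Finset.sum_le_sum fun j _ => mul_le_mul_of_nonneg_left ?_ (wt_diff_nonneg 𝓔 j)
    have h : (((QX j.succ).eval (m : ℚ) : ℚ) : ℝ) ≤ (((QX' j.succ).eval (m : ℚ) : ℚ) : ℝ) :=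
      Rat.cast_le.2 (hM j.succ m ((Finset.le_sup (Finset.mem_univ _)).trans (le_trans (le_max_right _ _) hm)))
    linarith
  rw [← Finset.sum_mul, sum_wt_diff] at hs
  simp only [mul_sub, Finset.sum_sub_distrib] at hs ⊢
  have hw := mul_le_mul_of_nonneg_right (show (1 : ℝ) - 𝓔.wt 0 ≤ 1 by linarith [𝓔.wt_nonneg]) hΔ
  linarith

end Groth.Agent.ParShLib
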